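import Cfsg.Agent.Lib.GolayUnique.Main
import Cfsg.Agent.Lib.Mathieu.Octads

/-!
Consequences of uniqueness: transport to the octads of the Golay code, of isomorphisms and of
automorphism groups.
-/

set_option autoImplicit false

namespace Cfsg.Agent.GolayUnique

open Finset
open scoped Pointwise

variable {α β : Type*} [Fintype α] [DecidableEq α] [Fintype β] [DecidableEq β]

omit [Fintype α] in
theorem mem_setSystemAut_iff {B : Set (Finset α)} {σ : Equiv.Perm α} :
    σ ∈ Cfsg.setSystemAut B ↔ ∀ b : Finset α, b.image σ ∈ B ↔ b ∈ B := by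
  rw [MulAction.mem_stabilizer_iff]
  constructor
  · intro h b
    conv_lhs => rw [← h]
    exact Set.smul_mem_smul_set_iff
  · intro h
    ext c
    rw [Set.mem_smul_set_iff_inv_smul_mem, ← h]
    rw [show (σ⁻¹ • c).image σ = σ • (σ⁻¹ • c) from rfl, smul_inv_smul]

omit [Fintype α] [Fintype β] in
theorem permCongr_mem {B : Set (Finset α)} {B' : Set (Finset β)} (e : α ≃ β)
    (h : ∀ b : Finset α, b ∈ B ↔ b.image e ∈ B') (σ : Equiv.Perm α) :
    e.permCongr σ ∈ Cfsg.setSystemAut B' ↔ σ ∈ Cfsg.setSystemAut B := by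
  have key : ∀ b : Finset α, (b.image e).image (e.permCongr σ) = (b.image σ).image e := fun b => by
    rw [image_image, image_image]
    exact image_congr fun x _ => by simp [Equiv.permCongr_apply]
  rw [mem_setSystemAut_iff, mem_setSystemAut_iff]
  constructor
  · intro hσ b
    rw [h, h, ← key, hσ]
  · intro hσ c
    obtain ⟨b, rfl⟩ : ∃ b : Finset α, b.image e = c :=
      ⟨c.image e.symm, by rw [image_image]; simp⟩
    rw [key, ← h, ← h, hσ]

/-- Isomorphic systems have isomorphic automorphism groups. -/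
def autEquiv {B : Set (Finset α)} {B' : Set (Finset β)} (e : α ≃ β)
    (h : ∀ b : Finset α, b ∈ B ↔ b.image e ∈ B') :
    Cfsg.setSystemAut B ≃* Cfsg.setSystemAut B' where
  toFun σ := ⟨e.permCongr σ.1, (permCongr_mem e h σ.1).2 σ.2⟩
  invFun τ := ⟨e.symm.permCongr τ.1, (permCongr_mem e h _).1 (by
    rw [show e.permCongr (e.symm.permCongr τ.1) = τ.1 from Equiv.ext fun x => by simp]
    exact τ.2)⟩
  left_inv σ := Subtype.ext (Equiv.ext fun x => by simp)
  right_inv τ := Subtype.ext (Equiv.ext fun x => by simp)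
  map_mul' σ τ := Subtype.ext (Equiv.ext fun x => by simp)

omit [Fintype α] [Fintype β] in
theorem isMultiplyPretransitive_transport {B : Set (Finset α)} {B' : Set (Finset β)} (e : α ≃ β)
    (h : ∀ b : Finset α, b ∈ B ↔ b.image e ∈ B') {n : ℕ}
    (ht : MulAction.IsMultiplyPretransitive (Cfsg.setSystemAut B') β n) :
    MulAction.IsMultiplyPretransitive (Cfsg.setSystemAut B) α n := by
  refine ⟨fun x y => ?_⟩
  obtain ⟨g, hg⟩ := ht.exists_smul_eq (x.trans e.toEmbedding) (y.trans e.toEmbedding)
  refine ⟨⟨e.symm.permCongr g.1, (permCongr_mem e h _).1 (by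
    rw [show e.permCongr (e.symm.permCongr g.1) = g.1 from Equiv.ext fun x => by simp]
    exact g.2)⟩, Function.Embedding.ext fun i => ?_⟩
  have := DFunLike.congr_fun hg i
  show e.symm.permCongr g.1 (x i) = y i
  rw [Equiv.permCongr_apply, Equiv.symm_symm, Equiv.symm_apply_eq]
  exact this

omit [Fintype α] [Fintype β] in
theorem setSystemIso_of_forall {B : Set (Finset α)} {B' : Set (Finset β)} (e : α ≃ β)
    (h : ∀ b : Finset α, b ∈ B ↔ b.image e ∈ B') : Cfsg.SetSystemIso B B' := by
  refine ⟨e, Set.ext fun c => ⟨?_, fun hc => ⟨c.image e.symm, ?_, ?_⟩⟩⟩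
  · rintro ⟨b, hb, rfl⟩; exact (h b).1 hb
  · rw [h, image_image]; simpa using hc
  · show (c.image e.symm).image e = c
    rw [image_image]; simp

/-- A self-orthogonal code containing the blocks is the code of the system. -/
theorem eq_blockCode {B : Set (Finset α)} (hα : Fintype.card α = 24) (hB : Cfsg.IsSteinerSystem 5 8 B)
    (C : Submodule (ZMod 2) (α → ZMod 2)) (hblk : ∀ b ∈ B, ind b ∈ C)
    (horth : ∀ v ∈ C, ∀ w ∈ C, ∑ x, v x * w x = 0) : C = blockCode B := by
  ext v
  constructor
  · intro hv b hb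
    have := horth v hv _ (hblk b hb)
    simpa [ind, sum_ite_mem] using this
  · intro hv
    exact blockCode_induction hα hB (P := fun w => w ∈ C) (zero_mem _)
      (fun b hb w _ hw => add_mem (hblk b hb) hw) hv

theorem ind_mem_of_mem_wordsOfWeight (C : Submodule (ZMod 2) (α → ZMod 2)) {k : ℕ} {b : Finset α}
    (hb : b ∈ Cfsg.wordsOfWeight (C : Set (α → ZMod 2)) k) : ind b ∈ C := by
  obtain ⟨⟨v, hv, rfl⟩, -⟩ := hb
  rwa [ind_supp]

theorem card_golayPt : Fintype.card Cfsg.GolayPt = 24 := by simp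

theorem golayCode_eq_blockCode : Cfsg.golayCode = blockCode Cfsg.octads :=
  eq_blockCode card_golayPt Mathieu.octads_steiner Cfsg.golayCode
    (fun _ hb => ind_mem_of_mem_wordsOfWeight Cfsg.golayCode hb)
    fun _ hv _ hw => Mathieu.golayCode_orth hv hw

end Cfsg.Agent.GolayUnique
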