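import Cfsg.Agent.Lib.GolayUnique.System

/-!
Every S(4,7,23) extends to an S(5,8,24) on one more point.
-/

set_option autoImplicit false

namespace Cfsg.Agent.GolayUnique

open Finset

variable {α : Type*} [Fintype α] [DecidableEq α] {B : Set (Finset α)}

/-- Words on the extended point set meeting every extended block evenly. -/
def extCode (B : Set (Finset α)) : Submodule (ZMod 2) (Option α → ZMod 2) where
  carrier := {v | ∀ b ∈ B, v none + ∑ x ∈ b, v (some x) = 0}
  zero_mem' := fun b _ => by simp
  add_mem' := fun {u v} hu hv b hb => by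
    have h1 := hu b hb; have h2 := hv b hb
    simp only [Pi.add_apply, sum_add_distrib]
    linear_combination h1 + h2
  smul_mem' := fun c v hv b hb => by
    have := hv b hb
    simp only [Pi.smul_apply, smul_eq_mul, ← mul_sum, ← mul_add, this, mul_zero]

/-- The extended system: the weight-8 words of the extended code. -/
def extSystem (B : Set (Finset α)) : Set (Finset (Option α)) :=
  {c | c.card = 8 ∧ ind c ∈ extCode B}

/-- The old points of the support. -/
def oldSupp (v : Option α → ZMod 2) : Finset α := univ.filter fun x => v (some x) ≠ 0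

omit [DecidableEq α] in
theorem card_supp_option (v : Option α → ZMod 2) :
    (Cfsg.support₂ v).card = (if v none = 0 then 0 else 1) + (oldSupp v).card := by
  classical
  simp only [Cfsg.support₂, oldSupp, card_filter, Fintype.sum_option, ite_not]

omit [Fintype α] in
theorem mem_insertNone_some {b : Finset α} {x : α} : (some x : Option α) ∈ insertNone b ↔ x ∈ b := by
  simp

omit [Fintype α] in
theorem none_mem_insertNone' (b : Finset α) : (none : Option α) ∈ insertNone b := by simp

theorem sum_oldSupp (v : Option α → ZMod 2) (b : Finset α) :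
    ∑ x ∈ b, v (some x) = ((b ∩ oldSupp v).card : ZMod 2) := by
  rw [← sum_ind]
  refine sum_congr rfl fun x _ => ?_
  rcases zmod_two (v (some x)) with h | h <;> simp [ind, oldSupp, h]

variable (hα : Fintype.card α = 23) (hB : Cfsg.IsSteinerSystem 4 7 B)

include hα hB

theorem ext_ind_mem {b : Finset α} (hb : b ∈ B) : ind (insertNone b) ∈ extCode B := fun c hc => by
  have h : ∀ x, ind (insertNone b) (some x) = ind b x := fun x =>
    if_congr mem_insertNone_some rfl rfl
  simp only [h, sum_ind]
  rw [show ind (insertNone b) none = 1 from if_pos (none_mem_insertNone' b), ← Nat.cast_one,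
    ← Nat.cast_add, ZMod.natCast_eq_zero_iff]
  rcases eq_or_ne c b with rfl | hne
  · rw [inter_self, hB.1 c hc]; norm_num
  · rcases Steiner.S4723_inter hα hB hc hb hne with h | h <;> rw [h] <;> norm_num

theorem ext_one_mem : (1 : Option α → ZMod 2) ∈ extCode B := fun b hb => by
  simp [hB.1 b hb]; rfl

theorem ext_eq_zero_of_card_le {v : Option α → ZMod 2} (hv : v ∈ extCode B)
    (h4 : (Cfsg.support₂ v).card ≤ 4) : v = 0 := by
  by_contra h0
  have hpar : ∀ c ∈ B, ((c ∩ oldSupp v).card : ZMod 2) = v none := fun c hc => by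
    have := hv c hc
    rw [sum_oldSupp] at this
    exact (CharTwo.add_eq_zero.1 this).symm
  rw [card_supp_option] at h4
  set s := oldSupp v with hs
  have h1 := Steiner.interNum_eq hB s (i := 1) (by norm_num)
  have h2 := Steiner.interNum_eq hB s (i := 2) (by norm_num)
  have h3 := Steiner.interNum_eq hB s (i := 3) (by norm_num)
  have h4' := Steiner.interNum_eq hB s (i := 4) le_rfl
  have h0' := Steiner.interNum_eq hB s (i := 0) (by norm_num)
  rw [hα] at h0' h1 h2 h3 h4'
  have hz : ∀ j : ℕ, (¬ (j : ZMod 2) = v none ∨ s.card < j) → Steiner.interNum B s j = 0 := fun j hj => by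
    rw [Steiner.interNum, card_eq_zero, filter_eq_empty_iff]
    intro c hc h
    rcases hj with hj | hj
    · exact hj (h ▸ hpar c (Steiner.mem_blocksF.1 hc))
    · have := card_le_card (inter_subset_right : c ∩ s ⊆ s)
      omega
  rcases zmod_two (v none) with hn | hn
  · rw [hn, if_pos rfl] at h4
    have hpos : 0 < s.card := by
      refine card_pos.2 (nonempty_iff_ne_empty.2 fun he => h0 (funext fun x => ?_))
      rcases x with _ | x
      · exact hn
      · exact by_contra fun hx => notMem_empty x (he ▸ (mem_filter.2 ⟨mem_univ _, hx⟩ : x ∈ oldSupp v))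
    have e1 := hz 1 (Or.inl (by rw [hn]; decide))
    have e3 := hz 3 (Or.inl (by rw [hn]; decide))
    have e5 := hz 5 (Or.inl (by rw [hn]; decide))
    have e7 := hz 7 (Or.inl (by rw [hn]; decide))
    have e6 := hz 6 (Or.inr (by omega))
    have e2 : s.card < 2 → Steiner.interNum B s 2 = 0 := fun h => hz 2 (Or.inr h)
    have e4 : s.card < 4 → Steiner.interNum B s 4 = 0 := fun h => hz 4 (Or.inr h)
    obtain ⟨n, hn'⟩ : ∃ n, s.card = n := ⟨_, rfl⟩
    rw [hn'] at h0' h1 h2 h3 h4' h4 hpos e2 e4
    have hle : n ≤ 4 := by omega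
    interval_cases n <;>
      norm_num [Finset.sum_range_succ, Nat.choose, e1, e3, e5, e6, e7] at h0' h1 h2 h3 h4' e2 e4 <;>
      omega
  · rw [hn, if_neg one_ne_zero] at h4
    have e0 := hz 0 (Or.inl (by rw [hn]; decide))
    have e2 := hz 2 (Or.inl (by rw [hn]; decide))
    have e4 := hz 4 (Or.inl (by rw [hn]; decide))
    have e6 := hz 6 (Or.inl (by rw [hn]; decide))
    have e5 := hz 5 (Or.inr (by omega))
    have e7 := hz 7 (Or.inr (by omega))
    have e1 : s.card < 1 → Steiner.interNum B s 1 = 0 := fun h => hz 1 (Or.inr h)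
    have e3 : s.card < 3 → Steiner.interNum B s 3 = 0 := fun h => hz 3 (Or.inr h)
    obtain ⟨n, hn'⟩ : ∃ n, s.card = n := ⟨_, rfl⟩
    rw [hn'] at h0' h1 h2 h3 h4' h4 e1 e3
    have hle : n ≤ 3 := by omega
    interval_cases n <;>
      norm_num [Finset.sum_range_succ, Nat.choose, e0, e2, e4, e5, e6, e7] at h0' h1 h2 h3 h4' e1 e3 <;>
      omega

/-- The extended code is spanned by the extended blocks. -/
theorem extCode_induction {P : (Option α → ZMod 2) → Prop} (h0 : P 0)
    (hadd : ∀ b ∈ B, ∀ v ∈ extCode B, P v → P (ind (insertNone b) + v)) {v : Option α → ZMod 2}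
    (hv : v ∈ extCode B) : P v := by
  induction hn : 2 * (Cfsg.support₂ v).card + (if v none = 0 then 1 else 0) using Nat.strong_induction_on
    generalizing v with
  | _ n ih =>
    by_cases h4 : (Cfsg.support₂ v).card ≤ 4
    · rw [ext_eq_zero_of_card_le hα hB hv h4]; exact h0
    have hc := card_supp_option v
    obtain ⟨s, hsv, hs⟩ := exists_subset_card_eq (s := oldSupp v) (n := 4) (by split_ifs at hc <;> omega)
    obtain ⟨b, ⟨hb, hsb⟩, -⟩ := hB.2 s hs
    have hm := add_mem (ext_ind_mem hα hB hb) hv
    have hold : (oldSupp (ind (insertNone b) + v)) = symmDiff b (oldSupp v) := by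
      ext x
      rcases zmod_two (v (some x)) with h | h <;> by_cases hx : x ∈ b <;>
        simp [oldSupp, ind, mem_symmDiff, h, hx] <;> decide
    have hnone : (ind (insertNone b) + v) none = 1 + v none := by simp [ind]
    have hlt : 2 * (Cfsg.support₂ (ind (insertNone b) + v)).card +
        (if (ind (insertNone b) + v) none = 0 then 1 else 0) < n := by
      rw [card_supp_option, hold, hnone]
      have := card_symmDiff' b (oldSupp v)
      have := hB.1 b hb
      have := card_le_card (subset_inter hsb hsv)
      rcases zmod_two (v none) with h | h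
      · simp only [h, add_zero, one_ne_zero, if_false, if_true] at hn hc ⊢
        omega
      · simp only [h, CharTwo.add_self_eq_zero, one_ne_zero, if_false, if_true] at hn hc ⊢
        omega
    have := hadd b hb _ hm (ih _ hlt hm rfl)
    rwa [show ind (insertNone b) + (ind (insertNone b) + v) = v from funext fun x => by
      simp only [Pi.add_apply, ← add_assoc, CharTwo.add_self_eq_zero, zero_add]] at this

theorem extCode_orth {u v : Option α → ZMod 2} (hu : u ∈ extCode B) (hv : v ∈ extCode B) :
    ∑ x, u x * v x = 0 := by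
  refine extCode_induction hα hB (P := fun w => ∑ x, w x * v x = 0) (by simp) ?_ hu
  intro b hb w _ hw
  simp only [Pi.add_apply, add_mul, sum_add_distrib, hw, add_zero]
  have := hv b hb
  simpa [Fintype.sum_option, ind, sum_ite_mem] using this

theorem ext_four_dvd {v : Option α → ZMod 2} (hv : v ∈ extCode B) : 4 ∣ (Cfsg.support₂ v).card := by
  refine extCode_induction hα hB (P := fun w => 4 ∣ (Cfsg.support₂ w).card) ?_ ?_ hv
  · simp [Cfsg.support₂]
  intro b hb w hw h4
  rw [supp_add, supp_ind]
  have h1 := card_symmDiff' (insertNone b) (Cfsg.support₂ w)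
  have h2 := extCode_orth hα hB (ext_ind_mem hα hB hb) hw
  rw [sum_mul_eq, supp_ind, ZMod.natCast_eq_zero_iff] at h2
  rw [Finset.card_insertNone, hB.1 b hb] at h1
  omega

theorem ext_eq_of_card {u v : Option α → ZMod 2} (hu : u ∈ extCode B) (hv : v ∈ extCode B)
    (h : (Cfsg.support₂ u).card + (Cfsg.support₂ v).card <
      8 + 2 * (Cfsg.support₂ u ∩ Cfsg.support₂ v).card) : u = v := by
  by_contra hne
  have h4 := ext_four_dvd hα hB (add_mem hu hv)
  have h0 := fun hle => hne (funext fun x => CharTwo.add_eq_zero.1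
    (congrFun (ext_eq_zero_of_card_le hα hB (add_mem hu hv) hle) x))
  rw [supp_add] at h4 h0
  have := card_symmDiff' (Cfsg.support₂ u) (Cfsg.support₂ v)
  by_cases hle : (symmDiff (Cfsg.support₂ u) (Cfsg.support₂ v)).card ≤ 4
  · exact h0 hle
  · omega

theorem insertNone_mem_iff {b : Finset α} : insertNone b ∈ extSystem B ↔ b ∈ B := by
  refine ⟨fun ⟨h8, hv⟩ => ?_, fun hb => ⟨by rw [Finset.card_insertNone, hB.1 b hb], ext_ind_mem hα hB hb⟩⟩
  rw [Finset.card_insertNone] at h8
  obtain ⟨s, hsb, hs⟩ := exists_subset_card_eq (s := b) (n := 4) (by omega)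
  obtain ⟨c, ⟨hc, hsc⟩, -⟩ := hB.2 s hs
  have hsub : insertNone s ⊆ insertNone b ∩ insertNone c := by
    refine subset_inter (fun x hx => ?_) (fun x hx => ?_) <;> rcases x with _ | x <;> simp at hx ⊢
    exacts [hsb hx, hsc hx]
  have := card_le_card hsub
  rw [Finset.card_insertNone, hs] at this
  have h := congrArg Cfsg.support₂ (ext_eq_of_card hα hB hv (ext_ind_mem hα hB hc) (by
    rw [supp_ind, supp_ind, Finset.card_insertNone, Finset.card_insertNone, hB.1 c hc]
    omega))
  rw [supp_ind, supp_ind] at h
  have hbc : b = c := Finset.ext fun x => by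
    rw [← mem_insertNone_some, h, mem_insertNone_some]
  exact hbc ▸ hc

theorem extSystem_steiner : Cfsg.IsSteinerSystem 5 8 (extSystem B) := by
  classical
  refine ⟨fun c hc => hc.1, fun s hs => ?_⟩
  have huniq : ∀ c c' : Finset (Option α), c ∈ extSystem B → s ⊆ c → c' ∈ extSystem B → s ⊆ c' → c = c' := by
    intro c c' hc hsc hc' hsc'
    have := card_le_card (subset_inter hsc hsc')
    have h := congrArg Cfsg.support₂ (ext_eq_of_card hα hB hc.2 hc'.2 (by
      rw [supp_ind, supp_ind, hc.1, hc'.1]; omega))
    rwa [supp_ind, supp_ind] at h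
  suffices h : ∃ c, c ∈ extSystem B ∧ s ⊆ c by
    obtain ⟨c, hc, hsc⟩ := h
    exact ⟨c, ⟨hc, hsc⟩, fun c' hc' => huniq _ _ hc'.1 hc'.2 hc hsc⟩
  set t := eraseNone s with ht
  by_cases hn : (none : Option α) ∈ s
  · have hst : s = insertNone t := by
      ext x; rcases x with _ | x <;> simp [ht, hn]
    have ht4 : t.card = 4 := by
      rw [hst, Finset.card_insertNone] at hs; omega
    obtain ⟨b, ⟨hb, htb⟩, -⟩ := hB.2 t ht4
    refine ⟨insertNone b, (insertNone_mem_iff hα hB).2 hb, ?_⟩
    rw [hst]
    intro x hx
    rcases x with _ | x <;> simp at hx ⊢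
    exact htb hx
  · have hst : ∀ x : α, some x ∈ s ↔ x ∈ t := fun x => by simp [ht]
    have ht5 : t.card = 5 := by
      rw [← hs, ht, ← Finset.card_map Function.Embedding.some, Finset.map_some_eraseNone,
        erase_eq_of_notMem hn]
    by_cases hblk : ∃ b ∈ B, t ⊆ b
    · obtain ⟨b, hb, htb⟩ := hblk
      refine ⟨insertNone b, (insertNone_mem_iff hα hB).2 hb, ?_⟩
      intro x hx
      rcases x with _ | x <;> simp
      exact htb ((hst x).1 hx)
    choose f hf using fun x : t => (hB.2 (t.erase x) (by rw [card_erase_of_mem x.2, ht5])).exists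
    have hft : ∀ x : t, f x ∩ t = t.erase x := fun x => by
      refine (eq_of_subset_of_card_le (subset_inter (hf x).2 (erase_subset _ _)) ?_).symm
      rw [card_erase_of_mem x.2, ht5]
      have hle := card_le_card (inter_subset_right : f x ∩ t ⊆ t)
      by_contra hlt
      exact hblk ⟨f x, (hf x).1, fun z hz => (mem_inter.1 ((eq_of_subset_of_card_le inter_subset_right
        (by omega) : f x ∩ t = t).symm ▸ hz)).1⟩
    set w : Option α → ZMod 2 := ∑ x : t, ind (insertNone (f x)) with hw
    have hwC : w ∈ extCode B := sum_mem fun x _ => ext_ind_mem hα hB (hf x).1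
    have hdisj : ((univ : Finset t) : Set t).PairwiseDisjoint fun x => f x \ t := by
      intro x _ y _ hxy
      show Disjoint (f x \ t) (f y \ t)
      rw [disjoint_left]
      intro z hzx hzy
      rw [mem_sdiff] at hzx hzy
      have hne : f x ≠ f y := fun h => by
        have h' := congrArg (· ∩ t) h
        simp only [hft] at h'
        exact hxy (Subtype.ext (by
          by_contra hne
          exact notMem_erase (x : α) t (h'.symm ▸ mem_erase.2 ⟨hne, x.2⟩)))
      have hsub : insert z ((t.erase x).erase y) ⊆ f x ∩ f y := by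
        refine insert_subset (mem_inter.2 ⟨hzx.1, hzy.1⟩) fun a ha => ?_
        simp only [mem_erase] at ha
        exact mem_inter.2 ⟨(hf x).2 (mem_erase.2 ⟨ha.2.1, ha.2.2⟩), (hf y).2 (mem_erase.2 ⟨ha.1, ha.2.2⟩)⟩
      have := card_le_card hsub
      rw [card_insert_of_notMem (fun h => hzx.2 (mem_of_mem_erase (mem_of_mem_erase h))),
        card_erase_of_mem (mem_erase.2 ⟨fun h => hxy (Subtype.ext h.symm), y.2⟩),
        card_erase_of_mem x.2, ht5] at this
      rcases Steiner.S4723_inter hα hB (hf x).1 (hf y).1 hne with h | h <;> omega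
    set U := (univ : Finset t).biUnion fun x => f x \ t with hU
    have hUc : U.card = 15 := by
      rw [hU, card_biUnion hdisj, sum_congr rfl fun x _ => (show (f x \ t).card = 3 by
        have := card_sdiff_add_card_inter (f x) t
        rw [hft, card_erase_of_mem x.2, ht5, hB.1 _ (hf x).1] at this
        omega)]
      simp [ht5]
    have hwn : w none = 1 := by
      rw [hw, Finset.sum_apply]
      simp [ind, ht5]; rfl
    have hwz : ∀ z, w (some z) = if z ∈ U then 1 else 0 := by
      intro z
      rw [hw, Finset.sum_apply, show (∑ x : t, ind (insertNone (f x)) (some z)) = ∑ x : t, ind (f x) z from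
        sum_congr rfl fun x _ => if_congr mem_insertNone_some rfl rfl]
      by_cases hzt : z ∈ t
      · rw [if_neg (fun h => by
          obtain ⟨x, -, hx⟩ := mem_biUnion.1 (hU ▸ h : z ∈ (univ : Finset t).biUnion fun x => f x \ t)
          exact (mem_sdiff.1 hx).2 hzt)]
        have : ∀ x : t, ind (f x) z = 1 + if x = ⟨z, hzt⟩ then 1 else 0 := fun x => by
          by_cases hx : x = ⟨z, hzt⟩
          · subst hx
            have : z ∉ f ⟨z, hzt⟩ := fun h => notMem_erase z t (hft ⟨z, hzt⟩ ▸ mem_inter.2 ⟨h, hzt⟩)
            rw [if_pos rfl, ind, if_neg this]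
            rfl
          · have : z ∈ f x := (hf x).2 (mem_erase.2 ⟨fun h => hx (Subtype.ext h.symm), hzt⟩)
            rw [if_neg hx, ind, if_pos this, add_zero]
        simp only [this, sum_add_distrib, sum_const, card_univ, Fintype.card_coe, ht5]
        simp; rfl
      · by_cases hzU : z ∈ U
        · obtain ⟨x, -, hx⟩ := mem_biUnion.1 (hU ▸ hzU : z ∈ (univ : Finset t).biUnion fun x => f x \ t)
          rw [if_pos hzU, sum_eq_single x]
          · exact if_pos (mem_sdiff.1 hx).1
          · intro y _ hy
            refine if_neg fun hzy => ?_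
            exact disjoint_left.1 (hdisj (mem_univ x) (mem_univ y) (Ne.symm hy)) hx (mem_sdiff.2 ⟨hzy, hzt⟩)
          · simp
        · rw [if_neg hzU, sum_eq_zero]
          intro x _
          exact if_neg fun hzx => hzU (mem_biUnion.2 ⟨x, mem_univ _, mem_sdiff.2 ⟨hzx, hzt⟩⟩)
    have hu : (1 : Option α → ZMod 2) + w ∈ extCode B := add_mem (ext_one_mem hα hB) hwC
    refine ⟨Cfsg.support₂ (1 + w), ⟨?_, by rwa [ind_supp]⟩, fun x hx => ?_⟩
    · rw [card_supp_option, Pi.add_apply, Pi.one_apply, hwn, CharTwo.add_self_eq_zero, if_pos rfl,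
        zero_add, show oldSupp (1 + w) = Uᶜ from by
          ext z; by_cases hz : z ∈ U <;> simp [oldSupp, hwz, hz, CharTwo.add_self_eq_zero],
        card_compl, hα, hUc]
    · rcases x with _ | x
      · exact absurd hx hn
      · have : x ∉ U := fun h => by
          obtain ⟨y, -, hy⟩ := mem_biUnion.1 (hU ▸ h : x ∈ (univ : Finset t).biUnion fun x => f x \ t)
          exact (mem_sdiff.1 hy).2 ((hst x).1 hx)
        simp [Cfsg.support₂, hwz, this]

omit [Fintype α] [DecidableEq α] hα hB in
theorem sum_image_perm (σ : Equiv.Perm α) [DecidableEq α] (b : Finset α) (f : α → ZMod 2) :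
    ∑ x ∈ b.image σ, f x = ∑ x ∈ b, f (σ x) :=
  sum_image fun x _ y _ h => σ.injective h

end Cfsg.Agent.GolayUnique
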