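import Cfsg.Agent.Lib.GolayUnique.Transport
import Cfsg.Agent.Lib.GolayUnique.Extension
import Cfsg.Agent.Lib.Mathieu.Simple

/-!
Systems S(4,7,23): uniqueness and automorphism groups, through the extension to 24 points.
-/

set_option autoImplicit false

namespace Cfsg.Agent.GolayUnique

open Finset

variable {α β : Type*} [Fintype α] [DecidableEq α] [Fintype β] [DecidableEq β]

omit [Fintype α] [Fintype β] [DecidableEq α] in
theorem image_insertNone (h : Option α ≃ Option β) (f : α → β) (h0 : h none = none)
    (hf : ∀ x, h (some x) = some (f x)) (b : Finset α) :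
    (insertNone b).image h = insertNone (b.image f) := by
  ext y
  rcases y with _ | y
  · simpa using ⟨none, by simp, h0⟩
  · simp only [mem_image, Finset.some_mem_insertNone]
    constructor
    · rintro ⟨x, hx, hxy⟩
      rcases x with _ | x
      · rw [h0] at hxy; exact absurd hxy (by simp)
      · exact ⟨x, Finset.some_mem_insertNone.1 hx, Option.some_injective _ ((hf x).symm.trans hxy)⟩
    · rintro ⟨x, hx, rfl⟩
      exact ⟨some x, Finset.some_mem_insertNone.2 hx, hf x⟩

omit [Fintype α] [Fintype β] [DecidableEq α] [DecidableEq β] in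
theorem exists_removeNone (h : Option α ≃ Option β) (h0 : h none = none) :
    ∃ f : α ≃ β, ∀ x, h (some x) = some (f x) := by
  refine ⟨Equiv.removeNone h, fun x => ?_⟩
  rcases hx : h (some x) with _ | y
  · rw [← h0] at hx
    exact absurd (h.injective hx) (by simp)
  · have := Equiv.removeNone_some h ⟨y, hx⟩
    rw [hx] at this
    exact this.symm

/-- An S(4,7,23) is the set of octads through the extra point, in suitable coordinates. -/
theorem exists_to_octads {B : Set (Finset α)} (hα : Fintype.card α = 23)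
    (hB : Cfsg.IsSteinerSystem 4 7 B) :
    ∃ e : Option α ≃ Cfsg.GolayPt, e none = none ∧
      ∀ c : Finset (Option α), c ∈ extSystem B ↔ c.image e ∈ Cfsg.octads := by
  obtain ⟨e, -, he⟩ := exists_iso (by rw [Fintype.card_option, hα]) card_golayPt
    (extSystem_steiner hα hB) Mathieu.octads_steiner
  obtain ⟨g, hg, hg0⟩ := Mathieu.M24_exists_map_point (e none) none
  rw [Mathieu.M24_eq_setSystemAut_octads, mem_setSystemAut_iff] at hg
  refine ⟨e.trans g, hg0, fun c => ?_⟩
  rw [he, ← hg, image_image]
  rfl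

/-- Any two Steiner systems S(4,7,23) are isomorphic. -/
theorem exists_iso_23 {B : Set (Finset α)} {B' : Set (Finset β)} (hα : Fintype.card α = 23)
    (hβ : Fintype.card β = 23) (hB : Cfsg.IsSteinerSystem 4 7 B) (hB' : Cfsg.IsSteinerSystem 4 7 B') :
    ∃ f : α ≃ β, ∀ b : Finset α, b ∈ B ↔ b.image f ∈ B' := by
  obtain ⟨e, e0, he⟩ := exists_to_octads hα hB
  obtain ⟨e', e0', he'⟩ := exists_to_octads hβ hB'
  have h0 : (e.trans e'.symm) none = none := by
    rw [Equiv.trans_apply, e0, Equiv.symm_apply_eq, e0']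
  obtain ⟨f, hf⟩ := exists_removeNone (e.trans e'.symm) h0
  refine ⟨f, fun b => ?_⟩
  rw [← insertNone_mem_iff hα hB, he, ← insertNone_mem_iff hβ hB', he',
    ← image_insertNone (e.trans e'.symm) f h0 hf, image_image]
  simp [Function.comp_def]

theorem optionCongr_mem_aut {B : Set (Finset α)}
    {σ : Equiv.Perm α} (hσ : σ ∈ Cfsg.setSystemAut B) :
    Equiv.optionCongr σ ∈ Cfsg.setSystemAut (extSystem B) := by
  rw [mem_setSystemAut_iff] at hσ ⊢
  intro c
  have h1 : ∀ x : Option α, ind (c.image (Equiv.optionCongr σ)) (Equiv.optionCongr σ x) = ind c x :=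
    fun x => if_congr (Function.Injective.mem_finset_image (Equiv.injective _)) rfl rfl
  have h2 : ∀ b : Finset α, ind (c.image (Equiv.optionCongr σ)) none +
      ∑ x ∈ b.image σ, ind (c.image (Equiv.optionCongr σ)) (some x) =
      ind c none + ∑ x ∈ b, ind c (some x) := fun b => by
    rw [sum_image_perm σ b]
    have h0 : ind (c.image (Equiv.optionCongr σ)) none = ind c none := h1 none
    rw [h0]
    congr 1
    refine sum_congr rfl fun x _ => ?_
    exact h1 (some x)
  simp only [extSystem, Set.mem_ofPred_eq, card_image_of_injective _ (Equiv.injective _)]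
  refine and_congr Iff.rfl ⟨fun h b hb => ?_, fun h b hb => ?_⟩
  · rw [← h2 b]
    exact h _ ((hσ b).2 hb)
  · have hb' : (b.image σ.symm).image σ = b := by rw [image_image]; simp
    rw [← hb', h2]
    exact h _ ((hσ _).1 (hb'.symm ▸ hb))

/-- The automorphism group of an S(4,7,23) is the point stabiliser in `M24`. -/
theorem exists_aut_23 {B : Set (Finset α)} (hα : Fintype.card α = 23)
    (hB : Cfsg.IsSteinerSystem 4 7 B) :
    Nonempty (Cfsg.setSystemAut B ≃* Cfsg.Spor.M23) ∧
      MulAction.IsMultiplyPretransitive (Cfsg.setSystemAut B) α 4 := by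
  obtain ⟨e, e0, he⟩ := exists_to_octads hα hB
  let φ : Cfsg.setSystemAut B →* Cfsg.Spor.M23 :=
    { toFun := fun σ => ⟨e.permCongr (Equiv.optionCongr σ.1),
        Mathieu.mem_M23_iff.2 ⟨by
          rw [Mathieu.M24_eq_setSystemAut_octads, permCongr_mem e he]
          exact optionCongr_mem_aut σ.2, by
          rw [Equiv.permCongr_apply, (Equiv.symm_apply_eq e).2 e0.symm]
          simp [e0]⟩⟩
      map_one' := Subtype.ext (Equiv.ext fun x => by simp)
      map_mul' := fun σ τ => Subtype.ext (Equiv.ext fun x => by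
        simp [Option.map_map, Function.comp_def]) }
  have hback : ∀ τ ∈ Cfsg.Spor.M23, ∃ σ : Cfsg.setSystemAut B, (φ σ).1 = τ := by
    intro τ hτ
    obtain ⟨hτ24, hτ0⟩ := Mathieu.mem_M23_iff.1 hτ
    set π := e.symm.permCongr τ with hπ
    have heπ : e.permCongr π = τ := Equiv.ext fun x => by simp [hπ]
    have hπX : π ∈ Cfsg.setSystemAut (extSystem B) := by
      rw [← permCongr_mem e he, heπ, ← Mathieu.M24_eq_setSystemAut_octads]
      exact hτ24
    have hπ0 : π none = none := by
      rw [hπ, Equiv.permCongr_apply, Equiv.symm_symm, e0, hτ0, Equiv.symm_apply_eq, e0]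
    obtain ⟨f, hf⟩ := exists_removeNone π hπ0
    have hmem : f ∈ Cfsg.setSystemAut B := by
      rw [mem_setSystemAut_iff] at hπX ⊢
      intro b
      rw [← insertNone_mem_iff hα hB, ← insertNone_mem_iff hα hB (b := b),
        ← image_insertNone π f hπ0 hf, hπX]
    refine ⟨⟨f, hmem⟩, ?_⟩
    show e.permCongr (Equiv.optionCongr f) = τ
    rw [← heπ]
    congr 1
    ext x : 1
    rcases x with _ | x
    · simp [hπ0]
    · simp [hf]
  have hinj : Function.Injective φ := by
    intro σ τ h
    refine Subtype.ext (Equiv.ext fun x => ?_)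
    have := DFunLike.congr_fun (congrArg Subtype.val h) (e (some x))
    simpa [φ] using this
  refine ⟨⟨MulEquiv.ofBijective φ ⟨hinj, fun τ => (hback τ.1 τ.2).imp fun σ h => Subtype.ext h⟩⟩,
    ⟨fun x y => ?_⟩⟩
  have hne : ∀ z : α, e (some z) ≠ none := fun z h => by
    rw [← e0] at h
    exact absurd (e.injective h) (by simp)
  obtain ⟨g, hg, hgxy⟩ := Mathieu.M23_exists_map (k := 4) le_rfl
    (x.trans (Function.Embedding.some.trans e.toEmbedding))
    (y.trans (Function.Embedding.some.trans e.toEmbedding)) (fun i => hne _) (fun i => hne _)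
  obtain ⟨σ, hσ⟩ := hback g hg
  refine ⟨σ, Function.Embedding.ext fun i => ?_⟩
  have h := hgxy i
  rw [← hσ] at h
  show (σ.1 : Equiv.Perm α) (x i) = y i
  simpa [φ] using h

end Cfsg.Agent.GolayUnique
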