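import Cfsg.Agent.Lib.Steiner.Counting

/-!
The binary code of an S(5,8,24): all words meeting every block evenly. It is spanned by the blocks,
self-orthogonal, doubly even, without non-zero words of weight below 8, and its weight-8 words are the
blocks.
-/

set_option autoImplicit false

namespace Cfsg.Agent.GolayUnique

open Finset

variable {α : Type*} [Fintype α] [DecidableEq α] {B : Set (Finset α)}

/-- The word with support `s`. -/
def ind (s : Finset α) : α → ZMod 2 := fun x => if x ∈ s then 1 else 0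

/-- Words meeting every block evenly. -/
def blockCode (B : Set (Finset α)) : Submodule (ZMod 2) (α → ZMod 2) where
  carrier := {v | ∀ b ∈ B, ∑ x ∈ b, v x = 0}
  zero_mem' := fun b _ => by simp
  add_mem' := fun {u v} hu hv b hb => by simp [sum_add_distrib, hu b hb, hv b hb]
  smul_mem' := fun c v hv b hb => by simp [← mul_sum, hv b hb]

omit [Fintype α] in
theorem zmod_two (a : ZMod 2) : a = 0 ∨ a = 1 := by revert a; decide

omit [Fintype α] in
theorem sum_ind (b s : Finset α) : ∑ x ∈ b, ind s x = ((b ∩ s).card : ZMod 2) := by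
  simp [ind, sum_boole, filter_mem_eq_inter]

theorem supp_ind (s : Finset α) : Cfsg.support₂ (ind s) = s := by
  ext x; simp [Cfsg.support₂, ind]

theorem ind_supp (v : α → ZMod 2) : ind (Cfsg.support₂ v) = v := by
  funext x
  rcases zmod_two (v x) with h | h <;> simp [ind, Cfsg.support₂, h]

theorem supp_add (u v : α → ZMod 2) :
    Cfsg.support₂ (u + v) = symmDiff (Cfsg.support₂ u) (Cfsg.support₂ v) := by
  ext x
  rcases zmod_two (u x) with h | h <;> rcases zmod_two (v x) with h' | h' <;>
    simp [Cfsg.support₂, mem_symmDiff, h, h'] <;> decide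

omit [Fintype α] in
theorem card_symmDiff' (s t : Finset α) : (symmDiff s t).card + 2 * (s ∩ t).card = s.card + t.card := by
  have h1 := card_sdiff_add_card_inter s t
  have h2 := card_sdiff_add_card_inter t s
  rw [inter_comm t s] at h2
  rw [symmDiff_def, sup_eq_union, card_union_of_disjoint disjoint_sdiff_sdiff]
  omega

theorem sum_mul_eq (u v : α → ZMod 2) :
    ∑ x, u x * v x = ((Cfsg.support₂ u ∩ Cfsg.support₂ v).card : ZMod 2) := by
  rw [← sum_ind, ind_supp, Cfsg.support₂, sum_filter]
  refine sum_congr rfl fun x _ => ?_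
  rcases zmod_two (u x) with h | h <;> simp [h]

variable (hα : Fintype.card α = 24) (hB : Cfsg.IsSteinerSystem 5 8 B)

include hα hB

theorem block_inter_even {b c : Finset α} (hb : b ∈ B) (hc : c ∈ B) : 2 ∣ (b ∩ c).card := by
  rcases eq_or_ne b c with rfl | hne
  · rw [inter_self, hB.1 b hb]; norm_num
  · rcases Steiner.S5824_inter hα hB hb hc hne with h | h | h <;> rw [h] <;> norm_num

theorem ind_mem {b : Finset α} (hb : b ∈ B) : ind b ∈ blockCode B := fun c hc => by
  rw [sum_ind, ZMod.natCast_eq_zero_iff]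
  exact block_inter_even hα hB hc hb

/-- A word of weight at most 4 meeting every block evenly is zero. -/
theorem eq_zero_of_card_le {v : α → ZMod 2} (hv : v ∈ blockCode B)
    (h4 : (Cfsg.support₂ v).card ≤ 4) : v = 0 := by
  set s := Cfsg.support₂ v with hs
  have hz : ∀ j, (j % 2 = 1 ∨ s.card < j) → Steiner.interNum B s j = 0 := fun j hj => by
    rw [Steiner.interNum, card_eq_zero, filter_eq_empty_iff]
    intro c hc h
    rcases hj with hj | hj
    · have h1 := hv c (Steiner.mem_blocksF.1 hc)
      rw [← ind_supp v, sum_ind, ← hs, h, ZMod.natCast_eq_zero_iff] at h1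
      omega
    · have := card_le_card (inter_subset_right : c ∩ s ⊆ s)
      omega
  by_contra h0
  have hpos : 0 < s.card := card_pos.2 <| nonempty_iff_ne_empty.2 fun he => h0 (by
    rw [← ind_supp v, ← hs, he]; funext x; simp [ind])
  have h3 := Steiner.interNum_eq hB s (i := 3) (by norm_num)
  have h2 := Steiner.interNum_eq hB s (i := 2) (by norm_num)
  have h1 := Steiner.interNum_eq hB s (i := 1) (by norm_num)
  have h4' := Steiner.interNum_eq hB s (i := 4) (by norm_num)
  rw [hα] at h1 h2 h3 h4'
  have e1 := hz 1 (Or.inl rfl)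
  have e3 := hz 3 (Or.inl rfl)
  have e5 := hz 5 (Or.inl rfl)
  have e6 := hz 6 (Or.inr (by omega))
  have e7 := hz 7 (Or.inl rfl)
  have e8 := hz 8 (Or.inr (by omega))
  have e2 : s.card < 2 → Steiner.interNum B s 2 = 0 := fun h => hz 2 (Or.inr h)
  have e4 : s.card < 4 → Steiner.interNum B s 4 = 0 := fun h => hz 4 (Or.inr h)
  obtain ⟨n, hn⟩ : ∃ n, s.card = n := ⟨_, rfl⟩
  rw [hn] at h1 h2 h3 h4' h4 hpos e2 e4
  interval_cases n <;>
    norm_num [Finset.sum_range_succ, Nat.choose, e1, e3, e5, e6, e7, e8] at h1 h2 h3 h4' e2 e4 <;> omega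

/-- Reduction by blocks: properties closed under adding a block hold on the whole code. -/
theorem blockCode_induction {P : (α → ZMod 2) → Prop} (h0 : P 0)
    (hadd : ∀ b ∈ B, ∀ v ∈ blockCode B, P v → P (ind b + v)) {v : α → ZMod 2}
    (hv : v ∈ blockCode B) : P v := by
  induction hn : (Cfsg.support₂ v).card using Nat.strong_induction_on generalizing v with
  | _ n ih =>
    by_cases h4 : n ≤ 4
    · rw [eq_zero_of_card_le hα hB hv (hn ▸ h4)]; exact h0
    obtain ⟨s, hsv, hs⟩ := exists_subset_card_eq (s := Cfsg.support₂ v) (n := 5) (by omega)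
    obtain ⟨b, ⟨hb, hsb⟩, -⟩ := hB.2 s hs
    have hlt : (Cfsg.support₂ (ind b + v)).card < n := by
      rw [supp_add, supp_ind]
      have := card_symmDiff' b (Cfsg.support₂ v)
      have := hB.1 b hb
      have := card_le_card (subset_inter hsb hsv)
      omega
    have hm := add_mem (ind_mem hα hB hb) hv
    have := hadd b hb _ hm (ih _ hlt hm rfl)
    rwa [show ind b + (ind b + v) = v from funext fun x => by
      simp only [Pi.add_apply, ← add_assoc, CharTwo.add_self_eq_zero, zero_add]] at this

theorem blockCode_orth {u v : α → ZMod 2} (hu : u ∈ blockCode B) (hv : v ∈ blockCode B) :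
    ∑ x, u x * v x = 0 := by
  refine blockCode_induction hα hB (P := fun w => ∑ x, w x * v x = 0) (by simp) ?_ hu
  intro b hb w _ hw
  simp only [Pi.add_apply, add_mul, sum_add_distrib, hw, add_zero]
  have := hv b hb
  simpa [ind, sum_ite_mem] using this

theorem four_dvd_card {v : α → ZMod 2} (hv : v ∈ blockCode B) : 4 ∣ (Cfsg.support₂ v).card := by
  refine blockCode_induction hα hB (P := fun w => 4 ∣ (Cfsg.support₂ w).card) ?_ ?_ hv
  · simp [Cfsg.support₂]
  intro b hb w hw h4
  rw [supp_add, supp_ind]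
  have h1 := card_symmDiff' b (Cfsg.support₂ w)
  have h2 := blockCode_orth hα hB (ind_mem hα hB hb) hw
  rw [sum_mul_eq, supp_ind, ZMod.natCast_eq_zero_iff] at h2
  rw [hB.1 b hb] at h1
  omega

theorem eight_le_card {v : α → ZMod 2} (hv : v ∈ blockCode B) (h0 : v ≠ 0) :
    8 ≤ (Cfsg.support₂ v).card := by
  by_contra h
  have := four_dvd_card hα hB hv
  exact h0 (eq_zero_of_card_le hα hB hv (by omega))

theorem eq_of_five_le {u v : α → ZMod 2} (hu : u ∈ blockCode B) (hv : v ∈ blockCode B)
    (h : (Cfsg.support₂ u).card + (Cfsg.support₂ v).card <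
      8 + 2 * (Cfsg.support₂ u ∩ Cfsg.support₂ v).card) : u = v := by
  by_contra hne
  have := eight_le_card hα hB (add_mem hu hv) fun e => hne (funext fun x =>
    CharTwo.add_eq_zero.1 (congrFun e x))
  rw [supp_add] at this
  have := card_symmDiff' (Cfsg.support₂ u) (Cfsg.support₂ v)
  omega

theorem mem_iff_weight {b : Finset α} : b ∈ B ↔ ind b ∈ blockCode B ∧ b.card = 8 := by
  refine ⟨fun hb => ⟨ind_mem hα hB hb, hB.1 b hb⟩, fun ⟨hv, h8⟩ => ?_⟩
  obtain ⟨s, hsb, hs⟩ := exists_subset_card_eq (s := b) (n := 5) (by omega)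
  obtain ⟨c, ⟨hc, hsc⟩, -⟩ := hB.2 s hs
  have := card_le_card (subset_inter hsb hsc)
  have h := eq_of_five_le hα hB hv (ind_mem hα hB hc) (by
    rw [supp_ind, supp_ind, h8, hB.1 c hc]; omega)
  have h' := congrArg Cfsg.support₂ h
  rw [supp_ind, supp_ind] at h'
  exact h' ▸ hc

theorem one_mem : (1 : α → ZMod 2) ∈ blockCode B := fun b hb => by
  simp [hB.1 b hb]; rfl

theorem card_le_sixteen {v : α → ZMod 2} (hv : v ∈ blockCode B) :
    (Cfsg.support₂ v).card ≤ 16 ∨ (Cfsg.support₂ v).card = 24 := by
  by_cases h : v + 1 = 0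
  · right
    rw [show v = 1 from funext fun x => CharTwo.add_eq_zero.1 (congrFun h x), ← hα]
    simp [Cfsg.support₂]
  · left
    have h8 := eight_le_card hα hB (add_mem hv (one_mem hα hB)) h
    rw [supp_add, show Cfsg.support₂ (1 : α → ZMod 2) = univ by simp [Cfsg.support₂]] at h8
    have := card_symmDiff' (Cfsg.support₂ v) univ
    rw [inter_univ, card_univ, hα] at this
    omega

end Cfsg.Agent.GolayUnique
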