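import Cfsg.Agent.Lib.GolayUnique.Standard
import Cfsg.Agent.Lib.GolayUnique.System

/-!
Coordinates for the code of an S(5,8,24): a block `O` and a 4 × 4 grid on the other 16 points.
-/

set_option autoImplicit false

namespace Cfsg.Agent.GolayUnique

open Finset

variable {α : Type*} [Fintype α] [DecidableEq α] {B : Set (Finset α)}
variable (hα : Fintype.card α = 24) (hB : Cfsg.IsSteinerSystem 5 8 B)

include hα hB

theorem exists_through_four {O T : Finset α} (hO : O ∈ B) (hTO : T ⊆ O) (hT : T.card = 4) :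
    ∃ f : {x // x ∉ O} → Finset α, ∀ i, f i ∈ B ∧ f i ∩ O = T ∧ (i : α) ∈ f i ∧
      ∀ j : {x // x ∉ O}, (j : α) ∈ f i → f j = f i := by
  classical
  have h5 : ∀ i : {x // x ∉ O}, (insert (i : α) T).card = 5 := fun i => by
    rw [card_insert_of_notMem fun h => i.2 (hTO h), hT]
  choose f hf hu using fun i : {x // x ∉ O} => hB.2 (insert (i : α) T) (h5 i)
  refine ⟨f, fun i => ?_⟩
  refine ⟨(hf i).1, ?_, (hf i).2 (mem_insert_self _ _), fun j hj => ?_⟩
  · refine (eq_of_subset_of_card_le (subset_inter ((subset_insert _ _).trans (hf i).2) hTO) ?_).symm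
    have hne : f i ≠ O := fun e => i.2 ((Finset.ext_iff.1 e _).1 ((hf i).2 (mem_insert_self _ _)))
    rcases Steiner.S5824_inter hα hB (hf i).1 hO hne with h | h | h <;> omega
  · exact (hu j (f i) ⟨(hf i).1, insert_subset hj ((subset_insert _ _).trans (hf i).2)⟩).symm

/-- Coordinates in which the code contains the affine functions off `O`. -/
theorem exists_grid {O : Finset α} (hO : O ∈ B) :
    ∃ e : Fin 8 ⊕ Fin 16 ≃ α, (∀ a, e (.inl a) ∈ O) ∧ (∀ i, e (.inr i) ∉ O) ∧
      ∀ k, ∃ d ∈ blockCode B, (∀ a, d (e (.inl a)) = 0) ∧ ∀ i, d (e (.inr i)) = bit k i := by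
  classical
  obtain ⟨F, hFO, hF⟩ := exists_subset_card_eq (s := O) (n := 5) (by rw [hB.1 O hO]; norm_num)
  obtain ⟨x, hx⟩ := card_pos.1 (by omega : 0 < F.card)
  obtain ⟨y, hy, hyx⟩ : ∃ y ∈ F, y ≠ x := exists_mem_ne (by omega) x
  have hsub : ∀ z ∈ F, F.erase z ⊆ O ∧ (F.erase z).card = 4 := fun z hz =>
    ⟨(erase_subset _ _).trans hFO, by rw [card_erase_of_mem hz, hF]⟩
  obtain ⟨f, hf⟩ := exists_through_four hα hB hO (hsub x hx).1 (hsub x hx).2
  obtain ⟨g, hg⟩ := exists_through_four hα hB hO (hsub y hy).1 (hsub y hy).2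
  have hW : Fintype.card {x // x ∉ O} = 16 := by
    rw [Fintype.card_subtype_compl, hα]
    simp [hB.1 O hO]
  have hfour : ∀ {T : Finset α} (f : {x // x ∉ O} → Finset α), T.card = 4 →
      (∀ i, f i ∈ B ∧ f i ∩ O = T ∧ (i : α) ∈ f i ∧ ∀ j : {x // x ∉ O}, (j : α) ∈ f i → f j = f i) →
      (univ.image f).card = 4 := by
    intro T f hT hf
    have h := card_eq_sum_card_fiberwise (s := (univ : Finset {x // x ∉ O})) (f := f) (t := univ.image f)
      fun i _ => mem_image_of_mem _ (mem_univ _)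
    rw [card_univ, hW, sum_congr rfl fun c hc => (show (univ.filter fun i => f i = c).card = 4 by
      obtain ⟨i, -, rfl⟩ := mem_image.1 hc
      have h1 : (f i \ O).card = 4 := by
        have := card_sdiff_add_card_inter (f i) O
        rw [(hf i).2.1, hT, hB.1 _ (hf i).1] at this
        omega
      rw [← h1]
      refine card_bij (fun j _ => (j : α)) (fun j hj => ?_) (fun a _ b _ h => Subtype.ext h) fun b hb => ?_
      · rw [mem_filter] at hj
        exact mem_sdiff.2 ⟨hj.2 ▸ (hf j).2.2.1, j.2⟩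
      · rw [mem_sdiff] at hb
        exact ⟨⟨b, hb.2⟩, mem_filter.2 ⟨mem_univ _, (hf i).2.2.2 ⟨b, hb.2⟩ hb.1⟩, rfl⟩)] at h
    rw [sum_const, smul_eq_mul] at h
    omega
  let R := (Finset.equivFinOfCardEq (hfour f (hsub x hx).2 hf))
  let S := (Finset.equivFinOfCardEq (hfour g (hsub y hy).2 hg))
  let r : {x // x ∉ O} → Fin 4 := fun i => R ⟨f i, mem_image_of_mem _ (mem_univ _)⟩
  let s : {x // x ∉ O} → Fin 4 := fun i => S ⟨g i, mem_image_of_mem _ (mem_univ _)⟩
  have hinj : Function.Injective fun i => (r i, s i) := by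
    intro i j h
    simp only [Prod.mk.injEq, r, s, EmbeddingLike.apply_eq_iff_eq, Subtype.mk.injEq] at h
    by_contra hne
    -- `f i` and `g i` share five points
    let U := (F.erase x).erase y
    have hU : U.card = 3 := by
      rw [card_erase_of_mem (mem_erase.2 ⟨hyx, hy⟩), (hsub x hx).2]
    have hUf : U ⊆ f i := fun z hz => (mem_inter.1 ((hf i).2.1.symm ▸ (mem_of_mem_erase hz) : z ∈ f i ∩ O)).1
    have hUg : U ⊆ g i := fun z hz => by
      simp only [U, mem_erase] at hz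
      exact (mem_inter.1 ((hg i).2.1.symm ▸ mem_erase.2 ⟨hz.1, hz.2.2⟩ : z ∈ g i ∩ O)).1
    have hUO : ∀ z ∈ U, z ∈ O := fun z hz => hFO (mem_of_mem_erase (mem_of_mem_erase hz))
    set P := insert (i : α) (insert (j : α) U) with hP
    have hPc : P.card = 5 := by
      rw [hP, card_insert_of_notMem, card_insert_of_notMem, hU]
      · exact fun h => j.2 (hUO _ h)
      · simp only [mem_insert, not_or]
        exact ⟨fun h => hne (Subtype.ext h), fun h => i.2 (hUO _ h)⟩
    have e := (hB.2 P hPc).unique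
      ⟨(hf i).1, insert_subset (hf i).2.2.1 (insert_subset (h.1 ▸ (hf j).2.2.1) hUf)⟩
      ⟨(hg i).1, insert_subset (hg i).2.2.1 (insert_subset (h.2 ▸ (hg j).2.2.1) hUg)⟩
    have e' := congrArg (· ∩ O) e
    simp only [(hf i).2.1, (hg i).2.1] at e'
    exact (notMem_erase x F) (e'.symm ▸ mem_erase.2 ⟨hyx.symm, hx⟩)
  let eW : {x // x ∉ O} ≃ Fin 16 := (Equiv.ofBijective _
    ((Fintype.bijective_iff_injective_and_card _).2 ⟨hinj, by rw [hW]; rfl⟩)).trans finProdFinEquiv
  let eO : Fin 8 ≃ {x // x ∈ O} := (Finset.equivFinOfCardEq (hB.1 O hO)).symm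
  refine ⟨(eO.sumCongr eW.symm).trans (Equiv.sumCompl fun x => x ∈ O), fun a => (eO a).2,
    fun i => (eW.symm i).2, ?_⟩
  -- a bit picks two classes of one of the two partitions
  have key : ∀ {T : Finset α} (f : {x // x ∉ O} → Finset α) (hT : T.card = 4)
      (hf : ∀ i, f i ∈ B ∧ f i ∩ O = T ∧ (i : α) ∈ f i ∧ ∀ j : {x // x ∉ O}, (j : α) ∈ f i → f j = f i)
      (R : ↥(univ.image f) ≃ Fin 4) (c : Fin 4 → ZMod 2), ∑ t, c t = 0 →
      ∃ d ∈ blockCode B, (∀ z ∈ O, d z = 0) ∧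
        ∀ i : {x // x ∉ O}, d i = c (R ⟨f i, mem_image_of_mem _ (mem_univ _)⟩) := by
    intro T f hT hf R c hc
    have hmemf : ∀ t : ↥(univ.image f), ∃ i, f i = t.1 := fun t => by
      obtain ⟨i, -, hi⟩ := mem_image.1 t.2
      exact ⟨i, hi⟩
    refine ⟨∑ t, c t • ind ((R.symm t) : Finset α), sum_mem fun t _ => Submodule.smul_mem _ _ ?_,
      fun z hz => ?_, fun i => ?_⟩
    · obtain ⟨i, hi⟩ := hmemf (R.symm t)
      exact hi ▸ ind_mem hα hB (hf i).1
    · rw [Finset.sum_apply]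
      have : ∀ t, (c t • ind ((R.symm t) : Finset α)) z = c t * (if z ∈ T then 1 else 0) := fun t => by
        obtain ⟨i, hi⟩ := hmemf (R.symm t)
        rw [← hi, Pi.smul_apply, smul_eq_mul, ind]
        congr 1
        refine if_congr ?_ rfl rfl
        rw [← (hf i).2.1, mem_inter]
        exact (and_iff_left hz).symm
      rw [sum_congr rfl fun t _ => this t, ← sum_mul, hc, zero_mul]
    · rw [Finset.sum_apply, sum_eq_single (R ⟨f i, mem_image_of_mem _ (mem_univ _)⟩)]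
      · simp [ind, (hf i).2.2.1]
      · intro t _ ht
        obtain ⟨j, hj⟩ := hmemf (R.symm t)
        have : (i : α) ∉ f j := fun hm => ht (by
          have e : (⟨f i, mem_image_of_mem _ (mem_univ _)⟩ : ↥(univ.image f)) = R.symm t :=
            Subtype.ext (((hf j).2.2.2 i hm).trans hj)
          rw [e, Equiv.apply_symm_apply])
        simp [ind, ← hj, this]
      · simp
  intro k
  have hbit : ∀ a b : Fin 4, (bit 0 (finProdFinEquiv (a, b)), bit 1 (finProdFinEquiv (a, b)),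
      bit 2 (finProdFinEquiv (a, b)), bit 3 (finProdFinEquiv (a, b))) =
    ((![0, 1, 0, 1] : Fin 4 → ZMod 2) b, (![0, 0, 1, 1] : Fin 4 → ZMod 2) b,
      (![0, 1, 0, 1] : Fin 4 → ZMod 2) a, (![0, 0, 1, 1] : Fin 4 → ZMod 2) a) := by decide +kernel
  have hs : ∀ i : Fin 16, ∃ w : {x // x ∉ O}, eW.symm i = w ∧ i = finProdFinEquiv (r w, s w) := fun i =>
    ⟨eW.symm i, rfl, (eW.apply_symm_apply i).symm⟩
  fin_cases k
  · obtain ⟨d, hd, h0, hd'⟩ := key g (hsub y hy).2 hg S ![0, 1, 0, 1] (by decide)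
    refine ⟨d, hd, fun a => h0 _ (eO a).2, fun i => ?_⟩
    obtain ⟨w, hw, rfl⟩ := hs i
    show d ((eW.symm _ : {x // x ∉ O}) : α) = _
    rw [hw, hd' w]
    exact (congrArg (fun q => q.1) (hbit (r w) (s w))).symm
  · obtain ⟨d, hd, h0, hd'⟩ := key g (hsub y hy).2 hg S ![0, 0, 1, 1] (by decide)
    refine ⟨d, hd, fun a => h0 _ (eO a).2, fun i => ?_⟩
    obtain ⟨w, hw, rfl⟩ := hs i
    show d ((eW.symm _ : {x // x ∉ O}) : α) = _
    rw [hw, hd' w]
    exact (congrArg (fun q => q.2.1) (hbit (r w) (s w))).symm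
  · obtain ⟨d, hd, h0, hd'⟩ := key f (hsub x hx).2 hf R ![0, 1, 0, 1] (by decide)
    refine ⟨d, hd, fun a => h0 _ (eO a).2, fun i => ?_⟩
    obtain ⟨w, hw, rfl⟩ := hs i
    show d ((eW.symm _ : {x // x ∉ O}) : α) = _
    rw [hw, hd' w]
    exact (congrArg (fun q => q.2.2.1) (hbit (r w) (s w))).symm
  · obtain ⟨d, hd, h0, hd'⟩ := key f (hsub x hx).2 hf R ![0, 0, 1, 1] (by decide)
    refine ⟨d, hd, fun a => h0 _ (eO a).2, fun i => ?_⟩
    obtain ⟨w, hw, rfl⟩ := hs i
    show d ((eW.symm _ : {x // x ∉ O}) : α) = _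
    rw [hw, hd' w]
    exact (congrArg (fun q => q.2.2.2) (hbit (r w) (s w))).symm

end Cfsg.Agent.GolayUnique
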