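import Cfsg.Agent.Lib.GolayUnique.Coords

/-!
Uniqueness of S(5,8,24): the code of such a system is the standard one in suitable coordinates.
-/

set_option autoImplicit false

namespace Cfsg.Agent.GolayUnique

open Finset

variable {α β : Type*} [Fintype α] [DecidableEq α] [Fintype β] [DecidableEq β]

omit [DecidableEq α] [DecidableEq β] in
theorem card_supp_comp (e : β ≃ α) (v : α → ZMod 2) :
    (Cfsg.support₂ (v ∘ e)).card = (Cfsg.support₂ v).card := by
  classical
  refine card_bij (fun x _ => e x) (fun x hx => by simpa [Cfsg.support₂] using hx)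
    (fun a _ b _ h => e.injective h) fun b hb => ?_
  exact ⟨e.symm b, by simpa [Cfsg.support₂] using hb, e.apply_symm_apply b⟩

omit [DecidableEq α] in
theorem card_supp_sum (e : Fin 8 ⊕ Fin 16 ≃ α) (v : α → ZMod 2) :
    (Cfsg.support₂ v).card = wt (fun a => v (e (.inl a))) + wt (fun i => v (e (.inr i))) := by
  classical
  simp only [wt, Cfsg.support₂, card_filter]
  rw [← e.sum_comp fun x => if v x ≠ 0 then 1 else 0, Fintype.sum_sum_type]

/-- In suitable coordinates the code of an S(5,8,24) is the standard one. -/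
theorem exists_coords {B : Set (Finset α)} (hα : Fintype.card α = 24)
    (hB : Cfsg.IsSteinerSystem 5 8 B) :
    ∃ e : Fin 8 ⊕ Fin 16 ≃ α, ∀ v : α → ZMod 2, v ∈ blockCode B ↔ IsStd (fun q => v (e q)) := by
  classical
  obtain ⟨S, -, hS⟩ := exists_subset_card_eq (s := (univ : Finset α)) (n := 5) (by
    rw [card_univ, hα]; norm_num)
  obtain ⟨O, ⟨hO, -⟩, -⟩ := hB.2 S hS
  obtain ⟨e, heO, heW, hd⟩ := exists_grid hα hB hO
  choose d hd hd0 hd1 using hd
  set C := blockCode B
  have hindl : ∀ a, ind O (e (.inl a)) = 1 := fun a => if_pos (heO a)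
  have hindr : ∀ i, ind O (e (.inr i)) = 0 := fun i => if_neg (heW i)
  -- the affine functions off `O`
  have hA : ∀ c a, ∃ w ∈ C, (∀ x, w (e (.inl x)) = 0) ∧ ∀ i, w (e (.inr i)) = aff c a i := fun c a =>
    ⟨c • (1 + ind O) + ∑ k, a k • d k,
      add_mem (Submodule.smul_mem _ _ (add_mem (one_mem hα hB) (ind_mem hα hB hO)))
        (sum_mem fun k _ => Submodule.smul_mem _ _ (hd k)),
      fun x => by simp [hindl, hd0, CharTwo.add_self_eq_zero],
      fun i => by simp [hindr, hd1, aff, Fin.sum_univ_four]⟩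
  have horth : ∀ v ∈ C, ∀ w ∈ C, (∑ x, v (e (.inl x)) * w (e (.inl x))) +
      ∑ i, v (e (.inr i)) * w (e (.inr i)) = 0 := fun v hv w hw => by
    have := blockCode_orth hα hB hv hw
    rwa [← e.sum_comp fun x => v x * w x, Fintype.sum_sum_type] at this
  have htop : ∀ v ∈ C, ∑ x, v (e (.inl x)) = 0 := fun v hv => by
    simpa [hindl, hindr] using horth v hv _ (ind_mem hα hB hO)
  have haff : ∀ v ∈ C, (∑ i, v (e (.inr i)) = 0) ∧ ∀ k, ∑ i, bit k i * v (e (.inr i)) = 0 := fun v hv => by
    refine ⟨?_, fun k => ?_⟩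
    · have := horth v hv _ (add_mem (one_mem hα hB) (ind_mem hα hB hO))
      simpa [hindl, hindr, CharTwo.add_self_eq_zero] using this
    · have := horth v hv _ (hd k)
      simpa [hd0 k, hd1 k, mul_comm] using this
  have hnf : ∀ v ∈ C, ∀ c a, ∃ w ∈ C, (∀ x, w (e (.inl x)) = v (e (.inl x))) ∧
      ∀ i, w (e (.inr i)) = quad (coef fun j => v (e (.inr j))) i + aff c a i := fun v hv c a => by
    obtain ⟨h1, h2⟩ := haff v hv
    have h3 := eq_quad_add_aff _ h1 h2
    obtain ⟨w, hw, hw0, hw1⟩ := hA (v (e (.inr 0))) fun k => v (e (.inr (unit4 k))) + v (e (.inr 0))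
    obtain ⟨u, hu, hu0, hu1⟩ := hA c a
    refine ⟨v + w + u, add_mem (add_mem hv hw) hu, fun x => by simp [hw0, hu0], fun i => ?_⟩
    have h4 := congrFun h3 i
    simp only [Pi.add_apply] at h4
    simp only [Pi.add_apply, hw1, hu1, h4]
    have hA2 := CharTwo.add_self_eq_zero
      (aff (v (e (.inr 0))) (fun k => v (e (.inr (unit4 k))) + v (e (.inr 0))) i)
    linear_combination hA2
  -- words vanishing on `O`
  have hker : ∀ v ∈ C, (∀ x, v (e (.inl x)) = 0) → coef (fun i => v (e (.inr i))) = 0 := by
    intro v hv h0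
    by_contra hne
    obtain ⟨c, a, h1, h2, h3⟩ := exists_weight_of_ne_zero _ hne
    obtain ⟨w, hw, hw0, hw1⟩ := hnf v hv c a
    have hW : (Cfsg.support₂ w).card = wt (quad (coef fun j => v (e (.inr j))) + aff c a) := by
      rw [card_supp_sum e, show (fun x => w (e (.inl x))) = (0 : Fin 8 → ZMod 2) from
        funext fun x => (hw0 x).trans (h0 x), show (fun i => w (e (.inr i))) = _ + _ from funext hw1]
      simp [wt]
    have hle : (Cfsg.support₂ w).card ≤ 16 := by
      rw [hW]; exact (card_filter_le _ _).trans (by simp)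
    have h4 := four_dvd_card hα hB hw
    have h5 : Cfsg.support₂ w ≠ ∅ := fun h => h1 (by rw [← hW, h, card_empty])
    have h6 := eight_le_card hα hB hw fun h => h5 (by rw [h]; simp [Cfsg.support₂])
    have h7 : (Cfsg.support₂ w).card ≠ 12 := fun h12 => by
      have hmem := add_mem hw (add_mem (one_mem hα hB) (ind_mem hα hB hO))
      have h8 := card_supp_sum e (w + (1 + ind O))
      rw [show (fun x => (w + (1 + ind O)) (e (.inl x))) = (0 : Fin 8 → ZMod 2) from funext fun x => by
          simp [hw0, h0, hindl, CharTwo.add_self_eq_zero],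
        show (fun i => (w + (1 + ind O)) (e (.inr i))) = (fun i => w (e (.inr i)) + 1) from funext fun i => by
          simp [hindr]] at h8
      have h9 : wt (fun i => w (e (.inr i)) + 1) = 16 - wt (fun i => w (e (.inr i))) := by
        rw [wt, wt, show (univ.filter fun i => w (e (.inr i)) + 1 ≠ 0) =
          (univ.filter fun i => w (e (.inr i)) ≠ 0)ᶜ from by
            ext i; rcases zmod_two (w (e (.inr i))) with h | h <;> simp [h] <;> decide,
          card_compl, Fintype.card_fin]
      have h10 := card_supp_sum e w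
      rw [show (fun x => w (e (.inl x))) = (0 : Fin 8 → ZMod 2) from
        funext fun x => (hw0 x).trans (h0 x)] at h10
      have hz : wt (0 : Fin 8 → ZMod 2) = 0 := by simp [wt]
      rw [h9, hz] at h8
      rw [hz] at h10
      have h11 := eight_le_card hα hB hmem fun h => by
        have : (Cfsg.support₂ (w + (1 + ind O))).card = 0 := by rw [h]; simp [Cfsg.support₂]
        omega
      omega
    rw [← hW] at h1 h2 h3
    omega
  -- words with trace a pair
  have hpair : ∀ a b : Fin 8, a ≠ b → ∃ w ∈ C, ∀ x, w (e (.inl x)) =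
      (if x = a then 1 else 0) + (if x = b then 1 else 0) := by
    intro a b hab
    obtain ⟨i⟩ : Nonempty (Fin 16) := inferInstance
    obtain ⟨U, hU, hUc⟩ := exists_subset_card_eq (s := (univ : Finset (Fin 8)) \ {a, b}) (n := 3) (by
      rw [card_sdiff_of_subset (subset_univ _), card_pair hab, card_univ, Fintype.card_fin]; norm_num)
    have hw : ∀ z : Fin 8, z ∉ U → ∃ c ∈ B, ∀ x, ind c (e (.inl x)) = if x = z ∨ x ∈ U then 1 else 0 := by
      intro z hz
      let T := (insert z U).map (Function.Embedding.inl.trans e.toEmbedding)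
      have hTO : T ⊆ O := fun p hp => by
        obtain ⟨x, -, rfl⟩ := mem_map.1 hp
        exact heO x
      obtain ⟨f, hf⟩ := exists_through_four hα hB hO hTO (by
        rw [card_map, card_insert_of_notMem hz, hUc])
      obtain ⟨hfB, hft, -, -⟩ := hf ⟨e (.inr i), heW i⟩
      refine ⟨_, hfB, fun x => if_congr ?_ rfl rfl⟩
      have : e (.inl x) ∈ f ⟨e (.inr i), heW i⟩ ↔ e (.inl x) ∈ T := by
        rw [← hft, mem_inter, and_iff_left (heO x)]
      rw [this]
      simp [T]
    have hnot : a ∉ U ∧ b ∉ U := ⟨fun h => (mem_sdiff.1 (hU h)).2 (by simp),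
      fun h => (mem_sdiff.1 (hU h)).2 (by simp)⟩
    obtain ⟨ca, hca, hca'⟩ := hw a hnot.1
    obtain ⟨cb, hcb, hcb'⟩ := hw b hnot.2
    refine ⟨ind ca + ind cb, add_mem (ind_mem hα hB hca) (ind_mem hα hB hcb), fun x => ?_⟩
    rw [Pi.add_apply, hca', hcb']
    by_cases hxU : x ∈ U
    · have h1 : x ≠ a := fun h => hnot.1 (h ▸ hxU)
      have h2 : x ≠ b := fun h => hnot.2 (h ▸ hxU)
      simp [hxU, h1, h2, CharTwo.add_self_eq_zero]
    · simp [hxU]
  have hcoef_add : ∀ u v : α → ZMod 2, coef (fun i => (u + v) (e (.inr i))) =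
      coef (fun i => u (e (.inr i))) + coef (fun i => v (e (.inr i))) := fun u v => coef_add _ _
  have huniq : ∀ u ∈ C, ∀ v ∈ C, (∀ x, u (e (.inl x)) = v (e (.inl x))) →
      coef (fun i => u (e (.inr i))) = coef (fun i => v (e (.inr i))) := fun u hu v hv h => by
    have h1 := hker _ (add_mem hu hv) fun x => by simp [h, CharTwo.add_self_eq_zero]
    rw [hcoef_add] at h1
    exact funext fun m => CharTwo.add_eq_zero.1 (congrFun h1 m)
  have hw0 : ∀ k : Fin 8, ∃ w ∈ C, ∀ x, w (e (.inl x)) =
      (if x = 0 then 1 else 0) + (if x = k then 1 else 0) := fun k => by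
    by_cases hk : (0 : Fin 8) = k
    · exact ⟨0, zero_mem _, fun x => by simp [← hk, CharTwo.add_self_eq_zero]⟩
    · exact hpair 0 k hk
  choose w hwC hwl using hw0
  set θ : Fin 8 → Fin 6 → ZMod 2 := fun k => coef (fun i => w k (e (.inr i))) with hθ
  have hgood : ∀ k l, k ≠ l → pf (θ k + θ l) = 1 := by
    intro k l hkl
    by_contra hne
    obtain ⟨c, a, h6, h10⟩ := exists_weight_of_pf _ hne
    obtain ⟨u, hu, hul, hur⟩ := hnf _ (add_mem (hwC k) (hwC l)) c a
    rw [hcoef_add] at hur
    have hl : wt (fun x => u (e (.inl x))) = 2 := by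
      rw [wt]
      refine Eq.trans ?_ (card_pair hkl)
      congr 1
      ext x
      rw [mem_filter, hul, Pi.add_apply, hwl, hwl, mem_insert, mem_singleton]
      have : ∀ p q r : Prop, ∀ [Decidable p] [Decidable q] [Decidable r], ¬ (q ∧ r) →
          ((((if p then 1 else 0) + (if q then 1 else 0)) + ((if p then 1 else 0) + (if r then 1 else 0)) :
            ZMod 2) ≠ 0 ↔ q ∨ r) := by
        intro p q r _ _ _ hqr
        by_cases p <;> by_cases q <;> by_cases r <;> simp_all <;> decide
      simpa using this (x = 0) (x = k) (x = l) fun h => hkl (h.1.symm.trans h.2)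
    have hW := card_supp_sum e u
    rw [hl, show (fun i => u (e (.inr i))) = quad (θ k + θ l) + aff c a from funext hur] at hW
    have h4 := four_dvd_card hα hB hu
    have h8 := eight_le_card hα hB hu fun h => by
      rw [h] at hW
      simp [Cfsg.support₂] at hW
      omega
    have hle : wt (quad (θ k + θ l) + aff c a) ≤ 16 := (card_filter_le _ _).trans (by simp)
    have h14 : wt (quad (θ k + θ l) + aff c a) ≠ 14 := fun h14 => by
      have hmem := add_mem hu (ind_mem hα hB hO)
      have h11 := card_supp_sum e (u + ind O)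
      rw [show (fun i => (u + ind O) (e (.inr i))) = quad (θ k + θ l) + aff c a from
          funext fun i => by simp [hindr, hur]; rfl,
        show (fun x => (u + ind O) (e (.inl x))) = (fun x => u (e (.inl x)) + 1) from
          funext fun x => by simp [hindl]] at h11
      have h9 : wt (fun x => u (e (.inl x)) + 1) = 6 := by
        rw [wt, show (univ.filter fun x => u (e (.inl x)) + 1 ≠ 0) =
          (univ.filter fun x => u (e (.inl x)) ≠ 0)ᶜ from by
            ext x; rcases zmod_two (u (e (.inl x))) with h | h <;> simp [h] <;> decide,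
          card_compl, Fintype.card_fin]
        rw [wt] at hl
        omega
      rcases card_le_sixteen hα hB hmem with h | h <;> omega
    omega
  -- the labelling of `O`
  have hθ0 : θ 0 = 0 := by
    simp only [hθ]
    exact (huniq _ (hwC 0) 0 (zero_mem _) fun x => by simp [hwl, CharTwo.add_self_eq_zero]).trans coef_zero
  let ι := {k : Fin 8 // k ≠ 0}
  have hx : ∀ k : ι, ∃ x y, x ≠ y ∧ θ k = cls x + cls y := fun k => exists_cls_of_pf _ (by
    have := hgood 0 k (Ne.symm k.2)
    rwa [hθ0, zero_add] at this)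
  choose X Y hXY hXYθ using hx
  obtain ⟨a₀, ha₀⟩ := exists_common (ι := ι) (by simp [ι]) (fun k => {X k, Y k})
    (fun k => card_pair (hXY k)) fun k l hkl => pf_cls_four _ _ _ _ (hXY k) (hXY l) (by
      rw [← hXYθ, ← hXYθ]; exact hgood k l fun h => hkl (Subtype.ext h))
  have hy : ∀ k : Fin 8, ∃ z, (k = 0 → z = a₀) ∧ (k ≠ 0 → z ≠ a₀) ∧ θ k = cls a₀ + cls z := by
    intro k
    by_cases hk : k = 0
    · exact ⟨a₀, fun _ => rfl, fun h => absurd hk h, by
        rw [hk, hθ0]; funext m; exact (CharTwo.add_self_eq_zero _).symm⟩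
    · have h := ha₀ ⟨k, hk⟩
      simp only [mem_insert, mem_singleton] at h
      rcases h with h | h
      · exact ⟨_, fun h0 => absurd h0 hk, fun _ => h ▸ (hXY ⟨k, hk⟩).symm, by rw [h]; exact hXYθ ⟨k, hk⟩⟩
      · exact ⟨_, fun h0 => absurd h0 hk, fun _ => h ▸ hXY ⟨k, hk⟩, by
          rw [h, add_comm]; exact hXYθ ⟨k, hk⟩⟩
  choose L hL0 hL1 hLθ using hy
  have hLinj : Function.Injective L := by
    intro k l h
    by_contra hne
    have := hgood k l hne
    rw [hLθ, hLθ, h, show cls a₀ + cls (L l) + (cls a₀ + cls (L l)) = 0 from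
      funext fun m => CharTwo.add_self_eq_zero ((cls a₀ + cls (L l)) m)] at this
    exact absurd this (by decide)
  let l : Fin 8 ≃ Fin 8 := Equiv.ofBijective L (Finite.injective_iff_bijective.1 hLinj)
  refine ⟨(l.symm.sumCongr (Equiv.refl (Fin 16))).trans e, fun v => ?_⟩
  -- subtracting the pair words
  set W := ∑ k, v (e (.inl k)) • w k with hW
  have hWC : W ∈ C := sum_mem fun k _ => Submodule.smul_mem _ _ (hwC k)
  have hWl : (∑ x, v (e (.inl x))) = 0 → ∀ x, W (e (.inl x)) = v (e (.inl x)) := by
    intro h x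
    simp only [hW, Finset.sum_apply, Pi.smul_apply, smul_eq_mul, hwl, mul_add, sum_add_distrib]
    rw [← sum_mul, h, zero_mul, zero_add]
    simp
  have hWθ : (∑ x, v (e (.inl x))) = 0 → coef (fun i => W (e (.inr i))) =
      ∑ k, v (e (.inl k)) • cls (L k) := by
    intro h
    have h1 : coef (fun i => W (e (.inr i))) = ∑ k, v (e (.inl k)) • θ k := by
      let φ : (α → ZMod 2) →ₗ[ZMod 2] (Fin 6 → ZMod 2) :=
        { toFun := fun u => coef (fun i => u (e (.inr i)))
          map_add' := hcoef_add
          map_smul' := fun c u => coef_smul c _ }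
      show φ W = _
      rw [hW, map_sum]
      exact sum_congr rfl fun k _ => by rw [map_smul]; rfl
    rw [h1]
    simp only [hLθ, smul_add, sum_add_distrib]
    rw [← Finset.sum_smul, h, zero_smul, zero_add]
  have hsum : ∀ f : Fin 8 → ZMod 2, ∑ a, f (l.symm a) = ∑ a, f a := fun f => l.symm.sum_comp f
  have hsum' : ∑ a, v (e (.inl (l.symm a))) • cls a = ∑ k, v (e (.inl k)) • cls (L k) := by
    rw [← l.sum_comp]
    refine sum_congr rfl fun k _ => ?_
    rw [Equiv.symm_apply_apply]
    rfl
  constructor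
  · intro hv
    refine ⟨?_, ?_, fun k => ?_, ?_⟩
    · exact (hsum fun a => v (e (.inl a))).trans (htop v hv)
    · exact (haff v hv).1
    · exact (haff v hv).2 k
    · show coef (fun i => v (e (.inr i))) = ∑ a, v (e (.inl (l.symm a))) • cls a
      rw [hsum', ← hWθ (htop v hv)]
      exact huniq v hv W hWC fun x => (hWl (htop v hv) x).symm
  · intro h
    have h0 : (∑ x, v (e (.inl x))) = 0 := (hsum fun a => v (e (.inl a))).symm.trans h.top
    have hz : ∀ x, (v + W) (e (.inl x)) = 0 := fun x => by simp [hWl h0, CharTwo.add_self_eq_zero]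
    obtain ⟨hW1, hW2⟩ := haff W hWC
    have hc : coef (fun i => (v + W) (e (.inr i))) = 0 := by
      rw [hcoef_add, hWθ h0, ← hsum']
      have hm : coef (fun i => v (e (.inr i))) = ∑ a, v (e (.inl (l.symm a))) • cls a := h.match_cls
      rw [hm]
      exact funext fun m => CharTwo.add_self_eq_zero _
    have hn := eq_quad_add_aff (fun i => (v + W) (e (.inr i))) (by
        simp only [Pi.add_apply, sum_add_distrib, hW1]; simpa using h.even) fun k => by
        simp only [Pi.add_apply, mul_add, sum_add_distrib, hW2 k]; simpa using h.lin k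
    rw [hc, show quad 0 = 0 from funext fun i => by simp [quad], zero_add] at hn
    obtain ⟨u, hu, hu0, hu1⟩ := hA ((v + W) (e (.inr 0)))
      fun k => (v + W) (e (.inr (unit4 k))) + (v + W) (e (.inr 0))
    have : v + W = u := funext fun y => by
      obtain ⟨q | q, rfl⟩ := e.surjective y
      · rw [hz, hu0]
      · rw [hu1]; exact congrFun hn q
    have hvW : v = u + W := by
      rw [← this, add_assoc, show W + W = 0 from funext fun y => CharTwo.add_self_eq_zero _, add_zero]
    exact hvW ▸ add_mem hu hWC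

/-- Any two Steiner systems S(5,8,24) are isomorphic. -/
theorem exists_iso {B : Set (Finset α)} {B' : Set (Finset β)} (hα : Fintype.card α = 24)
    (hβ : Fintype.card β = 24) (hB : Cfsg.IsSteinerSystem 5 8 B) (hB' : Cfsg.IsSteinerSystem 5 8 B') :
    ∃ e : α ≃ β, (∀ v : β → ZMod 2, v ∈ blockCode B' ↔ (fun x => v (e x)) ∈ blockCode B) ∧
      ∀ b : Finset α, b ∈ B ↔ b.image e ∈ B' := by
  obtain ⟨f, hf⟩ := exists_coords hα hB
  obtain ⟨g, hg⟩ := exists_coords hβ hB'
  have h : ∀ v : β → ZMod 2, v ∈ blockCode B' ↔ (fun x => v ((f.symm.trans g) x)) ∈ blockCode B := fun v => by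
    rw [hf, hg]
    simp
  refine ⟨f.symm.trans g, h, fun b => ?_⟩
  rw [mem_iff_weight hα hB, mem_iff_weight hβ hB', h, card_image_of_injective _ (Equiv.injective _)]
  have : (fun x => ind (b.image (f.symm.trans g)) ((f.symm.trans g) x)) = ind b :=
    funext fun x => if_congr (Function.Injective.mem_finset_image (Equiv.injective _)) rfl rfl
  rw [this]

end Cfsg.Agent.GolayUnique
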