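import Mathlib

/-!
The standard form of the binary Golay code on `Fin 8 ⊕ Fin 16`: finite facts on quadratic and affine
functions on the four-dimensional space over two elements (points numbered `0..15`), and on the eight
quadratic classes `cls`, whose pairwise sums are the 28 non-degenerate ones.
-/

set_option autoImplicit false

namespace Cfsg.Agent.GolayUnique

open Finset

/-- The `k`-th coordinate of the point `i`. -/
def bit (k : Fin 4) (i : Fin 16) : ZMod 2 := if i.val.testBit k.val then 1 else 0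

/-- The six pairs of coordinates. -/
def fstPair : Fin 6 → Fin 4 := ![0, 0, 0, 1, 1, 2]

/-- The second coordinate of the six pairs. -/
def sndPair : Fin 6 → Fin 4 := ![1, 2, 3, 2, 3, 3]

/-- The quadratic function with cross coefficients `θ`. -/
def quad (θ : Fin 6 → ZMod 2) (i : Fin 16) : ZMod 2 :=
  ∑ m, θ m * (bit (fstPair m) i * bit (sndPair m) i)

/-- An affine function. -/
def aff (c : ZMod 2) (a : Fin 4 → ZMod 2) (i : Fin 16) : ZMod 2 := c + ∑ k, a k * bit k i

/-- The point with one non-zero coordinate. -/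
def unit4 (k : Fin 4) : Fin 16 := ⟨2 ^ k.val, by fin_cases k <;> decide⟩

/-- The point with two non-zero coordinates. -/
def pair4 : Fin 6 → Fin 16 := ![3, 5, 9, 6, 10, 12]

/-- The second differences at the origin. -/
def coef (v : Fin 16 → ZMod 2) (m : Fin 6) : ZMod 2 :=
  v (pair4 m) + v (unit4 (fstPair m)) + v (unit4 (sndPair m)) + v 0

/-- The Pfaffian of the alternating form. -/
def pf (θ : Fin 6 → ZMod 2) : ZMod 2 := θ 0 * θ 5 + θ 1 * θ 4 + θ 2 * θ 3

/-- Weight of a function. -/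
def wt {ι : Type*} [Fintype ι] (v : ι → ZMod 2) : ℕ := (univ.filter fun i => v i ≠ 0).card

/-- The eight classes. -/
def cls (x : Fin 8) (m : Fin 6) : ZMod 2 :=
  if ((![0, 12, 22, 27, 39, 41, 53, 58] : Fin 8 → ℕ) x).testBit m.val then 1 else 0

theorem coef_add (u v : Fin 16 → ZMod 2) : coef (u + v) = coef u + coef v := by
  funext m; simp only [coef, Pi.add_apply]; ring

theorem coef_smul (c : ZMod 2) (v : Fin 16 → ZMod 2) : coef (c • v) = c • coef v := by
  funext m; simp only [coef, Pi.smul_apply, smul_eq_mul]; ring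

theorem coef_zero : coef 0 = 0 := by funext m; simp [coef]

theorem coef_quad : ∀ θ, coef (quad θ) = θ := by decide +kernel

theorem coef_aff : ∀ c a, coef (aff c a) = 0 := by decide +kernel

theorem sum_quad : ∀ θ, (∑ i, quad θ i = 0) ∧ ∀ k, ∑ i, bit k i * quad θ i = 0 := by decide +kernel

theorem sum_aff : ∀ c a, (∑ i, aff c a i = 0) ∧ ∀ k, ∑ i, bit k i * aff c a i = 0 := by decide +kernel

theorem exists_weight_of_pf : ∀ θ, pf θ ≠ 1 → ∃ c a, wt (quad θ + aff c a) ≠ 6 ∧
    wt (quad θ + aff c a) ≠ 10 := by decide +kernel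

theorem exists_weight_of_ne_zero : ∀ θ, θ ≠ 0 → ∃ c a, wt (quad θ + aff c a) ≠ 0 ∧
    wt (quad θ + aff c a) ≠ 8 ∧ wt (quad θ + aff c a) ≠ 16 := by decide +kernel

theorem exists_cls_of_pf : ∀ θ, pf θ = 1 → ∃ x y, x ≠ y ∧ θ = cls x + cls y := by decide +kernel

theorem pf_cls : ∀ x y : Fin 8, x ≠ y → pf (cls x + cls y) = 1 := by decide +kernel

theorem pf_cls_four : ∀ x y z w : Fin 8, x ≠ y → z ≠ w → pf (cls x + cls y + (cls z + cls w)) = 1 →
    (({x, y} : Finset (Fin 8)) ∩ {z, w}).card = 1 := by decide +kernel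

/-- A function orthogonal to the affine ones is a quadratic one plus an affine one. -/
theorem eq_quad_add_aff (v : Fin 16 → ZMod 2) (h1 : ∑ i, v i = 0)
    (hb : ∀ k, ∑ i, bit k i * v i = 0) :
    v = quad (coef v) + aff (v 0) (fun k => v (unit4 k) + v 0) := by
  set u := v + (quad (coef v) + aff (v 0) (fun k => v (unit4 k) + v 0)) with hu
  suffices h : u = 0 by
    funext i
    have := congrFun h i
    rw [hu, Pi.add_apply, Pi.zero_apply] at this
    exact CharTwo.add_eq_zero.1 this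
  have hu1 : ∑ i, u i = 0 := by
    simp only [hu, Pi.add_apply, sum_add_distrib, h1, (sum_quad _).1, (sum_aff _ _).1, add_zero]
  have hub : ∀ k, ∑ i, bit k i * u i = 0 := fun k => by
    simp only [hu, Pi.add_apply, mul_add, sum_add_distrib, hb k, (sum_quad _).2 k, (sum_aff _ _).2 k,
      add_zero]
  have hlow : ∀ i : Fin 16, i ∈ ([0, 1, 2, 4, 8, 3, 5, 9, 6, 10, 12] : List (Fin 16)) → u i = 0 := by
    intro i hi
    fin_cases hi <;>
      simp [hu, quad, aff, coef, bit, fstPair, sndPair, pair4, unit4, Fin.sum_univ_four,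
        Fin.sum_univ_six, Nat.testBit] <;>
      ring_nf <;> simp [show (2 : ZMod 2) = 0 from rfl, show (3 : ZMod 2) = 1 from rfl,
        show (4 : ZMod 2) = 0 from rfl, show (5 : ZMod 2) = 1 from rfl, show (6 : ZMod 2) = 0 from rfl]
  have key : ∀ b c d e f : ZMod 2, b + c + d + e + f = 0 → b + c + d + f = 0 → b + c + e + f = 0 →
      b + d + e + f = 0 → c + d + e + f = 0 → b = 0 ∧ c = 0 ∧ d = 0 ∧ e = 0 ∧ f = 0 := by decide
  simp [Fin.sum_univ_succ, hlow, bit, Nat.testBit] at hu1
  have e0 := hub 0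
  have e1 := hub 1
  have e2 := hub 2
  have e3 := hub 3
  simp [Fin.sum_univ_succ, hlow, bit, Nat.testBit] at e0 e1 e2 e3
  have hk := key (u 7) (u 11) (u 13) (u 14) (u 15)
  funext i
  fin_cases i <;> first
    | exact hlow _ (by decide)
    | (simp only [← add_assoc] at hu1 e0 e1 e2 e3
       simp [hk (by linear_combination hu1) (by linear_combination e0) (by linear_combination e1)
        (by linear_combination e2) (by linear_combination e3)])

/-- Membership in the standard code. -/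
structure IsStd (v : Fin 8 ⊕ Fin 16 → ZMod 2) : Prop where
  top : ∑ a, v (.inl a) = 0
  even : ∑ i, v (.inr i) = 0
  lin : ∀ k, ∑ i, bit k i * v (.inr i) = 0
  match_cls : coef (fun i => v (.inr i)) = ∑ a, v (.inl a) • cls a

/-- Pairwise meeting pairs, at least four of them, have a common point. -/
theorem exists_common {ι : Type*} [Fintype ι] (hι : 4 ≤ Fintype.card ι) (P : ι → Finset (Fin 8))
    (h2 : ∀ k, (P k).card = 2) (h1 : ∀ k l, k ≠ l → (P k ∩ P l).card = 1) :
    ∃ a, ∀ k, a ∈ P k := by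
  classical
  obtain ⟨k₁, k₂, hk⟩ := Fintype.exists_pair_of_one_lt_card (α := ι) (by omega)
  obtain ⟨a, ha⟩ := card_eq_one.1 (h1 k₁ k₂ hk)
  have ha1 : a ∈ P k₁ := mem_of_mem_inter_left (ha ▸ mem_singleton_self a)
  have ha2 : a ∈ P k₂ := mem_of_mem_inter_right (ha ▸ mem_singleton_self a)
  refine ⟨a, fun k => by_contra fun hak => ?_⟩
  have hk1 : k ≠ k₁ := fun e => hak (e ▸ ha1)
  have hk2 : k ≠ k₂ := fun e => hak (e ▸ ha2)
  obtain ⟨b, hb⟩ := card_eq_one.1 (h1 k k₁ hk1)
  obtain ⟨c, hc⟩ := card_eq_one.1 (h1 k k₂ hk2)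
  have hb' : b ∈ P k ∧ b ∈ P k₁ := mem_inter.1 (hb ▸ mem_singleton_self b)
  have hc' : c ∈ P k ∧ c ∈ P k₂ := mem_inter.1 (hc ▸ mem_singleton_self c)
  have hbc : b ≠ c := by
    rintro rfl
    have hm : b ∈ P k₁ ∩ P k₂ := mem_inter.2 ⟨hb'.2, hc'.2⟩
    rw [ha, mem_singleton] at hm
    exact hak (hm ▸ hb'.1)
  have hpair : ∀ (l : ι) (x y : Fin 8), x ≠ y → x ∈ P l → y ∈ P l → P l = {x, y} := fun l x y hxy hx hy =>
    (eq_of_subset_of_card_le (by simp [insert_subset_iff, hx, hy]) (by rw [h2 l, card_pair hxy])).symm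
  have hne : ∀ {x : Fin 8}, x ∈ P k → a ≠ x := fun hx e => hak (e ▸ hx)
  have hPk := hpair k b c hbc hb'.1 hc'.1
  have hP1 := hpair k₁ a b (hne hb'.1) ha1 hb'.2
  have hP2 := hpair k₂ a c (hne hc'.1) ha2 hc'.2
  obtain ⟨l, hl1, hl2, hl3⟩ : ∃ l, l ≠ k₁ ∧ l ≠ k₂ ∧ l ≠ k := by
    by_contra hcon
    push Not at hcon
    have hs : (univ : Finset ι) ⊆ {k₁, k₂, k} := fun l _ => by
      simp only [mem_insert, mem_singleton]
      have := hcon l
      tauto
    have := card_le_card hs
    rw [card_univ] at this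
    have := card_le_three (a := k₁) (b := k₂) (c := k)
    omega
  have hno : ∀ {l' : ι}, l ≠ l' → P l ≠ P l' := fun {l'} hll e => by
    have := h1 l l' hll
    rw [← e, inter_self, h2] at this
    omega
  obtain ⟨x, hx⟩ := card_eq_one.1 (h1 l k hl3)
  have hx' : x ∈ P l ∧ x ∈ P k := mem_inter.1 (hx ▸ mem_singleton_self x)
  by_cases hal : a ∈ P l
  · have := hpair l a x (hne hx'.2) hal hx'.1
    have hxk := hx'.2
    rw [hPk, mem_insert, mem_singleton] at hxk
    rcases hxk with rfl | rfl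
    · exact hno hl1 (this.trans hP1.symm)
    · exact hno hl2 (this.trans hP2.symm)
  · obtain ⟨y, hy⟩ := card_eq_one.1 (h1 l k₁ hl1)
    obtain ⟨z, hz⟩ := card_eq_one.1 (h1 l k₂ hl2)
    have hy' : y ∈ P l ∧ y ∈ P k₁ := mem_inter.1 (hy ▸ mem_singleton_self y)
    have hz' : z ∈ P l ∧ z ∈ P k₂ := mem_inter.1 (hz ▸ mem_singleton_self z)
    have hyb : y = b := by
      have := hy'.2
      rw [hP1, mem_insert, mem_singleton] at this
      exact this.resolve_left fun e => hal (e ▸ hy'.1)
    have hzc : z = c := by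
      have := hz'.2
      rw [hP2, mem_insert, mem_singleton] at this
      exact this.resolve_left fun e => hal (e ▸ hz'.1)
    exact hno hl3 ((hpair l b c hbc (hyb ▸ hy'.1) (hzc ▸ hz'.1)).trans hPk.symm)

end Cfsg.Agent.GolayUnique
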